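import Groth.Agent.L12.PowSer
import Groth.Agent.L05.TameRoot.RootRing
import Mathlib.Algebra.DualNumber
import Mathlib.RingTheory.MvPowerSeries.Inverse

/-!
The cotangent computation for a Weierstrass equation `y² + a₁xy = x³ + a₆` in residue characteristic two.
-/

set_option autoImplicit false
set_option linter.style.haveILetI false
universe u

open IsLocalRing

namespace Groth.L05.Weierstrass

theorem span_pair_pow_le {S : Type u} [CommRing S] (x y : S) : ∀ n : ℕ,
    Ideal.span {x, y} ^ (n + 1) ≤ Ideal.span {y ^ (n + 1), x * y ^ n, x ^ 2} := by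
  intro n
  induction n with
  | zero =>
    rw [zero_add, pow_one, pow_one, pow_zero, mul_one]
    refine Ideal.span_le.mpr ?_
    rintro z (rfl | rfl)
    · exact Ideal.subset_span (by simp)
    · exact Ideal.subset_span (by simp)
  | succ n ih =>
    rw [pow_succ]
    refine (Ideal.mul_mono_left ih).trans ?_
    rw [Ideal.span_mul_span', Ideal.span_le]
    rintro z ⟨a, ha, b, hb, rfl⟩
    simp only [Set.mem_insert_iff, Set.mem_singleton_iff] at ha hb
    set J := Ideal.span ({y ^ (n + 1 + 1), x * y ^ (n + 1), x ^ 2} : Set S)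
    have h1 : y ^ (n + 1 + 1) ∈ J := Ideal.subset_span (by simp)
    have h2 : x * y ^ (n + 1) ∈ J := Ideal.subset_span (by simp)
    have h3 : x ^ 2 ∈ J := Ideal.subset_span (by simp)
    rcases ha with rfl | rfl | rfl <;> rcases hb with hb | hb <;> rw [hb, SetLike.mem_coe]
    · show y ^ (n + 1) * x ∈ J; rw [mul_comm]; exact h2
    · show y ^ (n + 1) * y ∈ J; rw [← pow_succ]; exact h1
    · show x * y ^ n * x ∈ J; rw [mul_right_comm, ← sq]; exact J.mul_mem_right _ h3
    · show x * y ^ n * y ∈ J; rw [mul_assoc, ← pow_succ]; exact h2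
    · exact J.mul_mem_right _ h3
    · exact J.mul_mem_right _ h3

theorem exists_eval {σ : Type} [Finite σ] {R T : Type u} [CommRing R] [CommRing T] [Algebra R T] (t : σ → T)
    {n : ℕ} (hn : Ideal.span (Set.range t) ^ n = ⊥) :
    ∃ φ : MvPowerSeries σ R →+* T, (∀ r : R, φ (algebraMap R _ r) = algebraMap R T r) ∧
      ∀ i, φ (MvPowerSeries.X i) = t i := by
  let ev : MvPolynomial σ R →ₐ[R] T := MvPolynomial.aeval t
  have hev : ∀ q ∈ MvPolynomial.idealOfVars σ R ^ n, ev q = 0 := fun q hq => by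
    have h1 := Ideal.mem_map_of_mem ev hq
    have e : (MvPolynomial.idealOfVars σ R).map ev = Ideal.span (Set.range t) := by
      rw [MvPolynomial.idealOfVars, Ideal.map_span, ← Set.range_comp]
      congr 2
      exact funext fun i => MvPolynomial.aeval_X t i
    rwa [Ideal.map_pow, e, hn, Ideal.mem_bot] at h1
  let L : (MvPolynomial σ R ⧸ MvPolynomial.idealOfVars σ R ^ n) →+* T := Ideal.Quotient.lift _ ev.toRingHom hev
  let tr := MvPowerSeries.truncTotalAlgHom σ R n
  refine ⟨L.comp tr.toRingHom, fun r => ?_, fun i => ?_⟩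
  · have h := tr.commutes (MvPolynomial.C r)
    show L (tr _) = _
    rw [MvPowerSeries.algebraMap_apply, Algebra.algebraMap_self, RingHom.id_apply, ← MvPolynomial.coe_C]
    refine (congrArg L h).trans ?_
    exact MvPolynomial.aeval_C t r
  · have h := tr.commutes (MvPolynomial.X i)
    show L (tr _) = _
    rw [← MvPolynomial.coe_X]
    refine (congrArg L h).trans ?_
    exact MvPolynomial.aeval_X t i

theorem result (R : Type u) [CommRing R] [IsDomain R] [IsDiscreteValuationRing R]
    (ϖ a₁ a₆ : R) (hϖ : Irreducible ϖ) (v : ℕ) (hv : 1 ≤ v) (u₁ u₆ : Rˣ) (ha₁ : a₁ = u₁ * ϖ ^ v) (ha₆ : a₆ = u₆ * ϖ)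
    (h2 : (2 : R) ∈ IsLocalRing.maximalIdeal R ^ v)
    (x y : MvPowerSeries (Fin 2) R) (hx : x = MvPowerSeries.X 0) (hy : y = MvPowerSeries.X 1)
    (I M : Ideal (MvPowerSeries (Fin 2) R))
    (hI : I = Ideal.span {y ^ 2 + a₁ • (x * y) - x ^ 3 - algebraMap R (MvPowerSeries (Fin 2) R) a₆,
      2 * y + a₁ • x, 3 * x ^ 2 - a₁ • y})
    (hM : M = Ideal.span {algebraMap R (MvPowerSeries (Fin 2) R) ϖ, x, y}) :
    M ^ (2 * v) ⊔ I = Ideal.span {y ^ (2 * v), x * y ^ (2 * v - 1)} ⊔ I ∧
      ∀ a b : R, a • y ^ (2 * v) + b • (x * y ^ (2 * v - 1)) ∈ M ^ (2 * v + 1) ⊔ I →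
        a ∈ IsLocalRing.maximalIdeal R ∧ b ∈ IsLocalRing.maximalIdeal R := by
  classical
  obtain ⟨n, rfl⟩ : ∃ n, v = n + 1 := ⟨v - 1, by omega⟩
  have h2' : (2 : R) ∈ maximalIdeal R := Ideal.pow_le_self (by omega) h2
  obtain ⟨c₂, hc₂⟩ := (Ideal.mem_span_singleton.mp (Ideal.span_singleton_pow ϖ (n + 1) ▸ hϖ.maximalIdeal_eq ▸ h2) :
    ϖ ^ (n + 1) ∣ (2 : R))
  have h3 : IsUnit (3 : R) := by
    rw [← notMem_maximalIdeal]
    intro h
    refine (maximalIdeal.isMaximal R).ne_top ((Ideal.eq_top_iff_one _).mpr ?_)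
    simpa [show (3 : R) - 2 = 1 by norm_num] using sub_mem h h2'
  obtain ⟨t3, ht3⟩ := h3
  have hxy : MvPowerSeries.constantCoeff x = 0 ∧ MvPowerSeries.constantCoeff y = 0 :=
    ⟨by rw [hx]; simp, by rw [hy]; simp⟩
  refine ⟨?_, ?_⟩
  · let q := Ideal.Quotient.mk I
    let al : R →+* MvPowerSeries (Fin 2) R ⧸ I := q.comp (algebraMap R (MvPowerSeries (Fin 2) R))
    have hF : q y ^ 2 + al a₁ * (q x * q y) - q x ^ 3 - al a₆ = 0 := by
      have h : y ^ 2 + a₁ • (x * y) - x ^ 3 - algebraMap R (MvPowerSeries (Fin 2) R) a₆ ∈ I := by rw [hI]; exact Ideal.subset_span (by simp)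
      simpa [al, q, Algebra.smul_def] using (Ideal.Quotient.eq_zero_iff_mem (I := I)).mpr h
    have hX : 3 * q x ^ 2 - al a₁ * q y = 0 := by
      have h : 3 * x ^ 2 - a₁ • y ∈ I := by rw [hI]; exact Ideal.subset_span (by simp)
      simpa [al, q, Algebra.smul_def, map_ofNat] using (Ideal.Quotient.eq_zero_iff_mem (I := I)).mpr h
    have h3t : al ((t3⁻¹ : Rˣ) : R) * 3 = 1 := by
      rw [← map_ofNat al 3, ← map_mul, ← ht3, Units.inv_mul, map_one]
    have hx2 : q x ^ 2 = al ((t3⁻¹ : Rˣ) : R) * al a₁ * q y := by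
      linear_combination (al ((t3⁻¹ : Rˣ) : R)) * hX - (q x ^ 2) * h3t
    set k : R := (1 - ((t3⁻¹ : Rˣ) : R)) * ((u₆⁻¹ : Rˣ) : R) * u₁ * ϖ ^ n with hk
    have hu6 : al ((u₆⁻¹ : Rˣ) : R) * al (u₆ : R) = 1 := by rw [← map_mul, Units.inv_mul, map_one]
    have hun : IsUnit (1 - al k * (q x * q y)) := by
      have : IsUnit (1 - algebraMap R (MvPowerSeries (Fin 2) R) k * (x * y)) := by
        rw [MvPowerSeries.isUnit_iff_constantCoeff]
        simp [hxy.1]
      have h := this.map q
      rwa [map_sub, map_one, map_mul q, map_mul q x] at h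
    have hpi : al ϖ * (1 - al k * (q x * q y)) = al ((u₆⁻¹ : Rˣ) : R) * q y ^ 2 := by
      have ha6 : al a₆ = al (u₆ : R) * al ϖ := by rw [ha₆, map_mul]
      have ha1 : al a₁ = al (u₁ : R) * al ϖ ^ (n + 1) := by rw [ha₁, map_mul, map_pow]
      have hkk : al k = (1 - al ((t3⁻¹ : Rˣ) : R)) * al ((u₆⁻¹ : Rˣ) : R) * al (u₁ : R) * al ϖ ^ n := by
        rw [hk, map_mul, map_mul, map_mul, map_sub, map_one, map_pow]
      linear_combination (-al ((u₆⁻¹ : Rˣ) : R)) * hF - al ((u₆⁻¹ : Rˣ) : R) * q x * hx2 +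
        (-al ((u₆⁻¹ : Rˣ) : R)) * ha6 + (al ((u₆⁻¹ : Rˣ) : R) * (1 - al ((t3⁻¹ : Rˣ) : R)) * (q x * q y)) * ha1 -
        (al ϖ * q x * q y) * hkk - al ϖ * hu6
    obtain ⟨w, hw⟩ := hun
    have hpi' : al ϖ = q y ^ 2 * (al ((u₆⁻¹ : Rˣ) : R) * (w⁻¹ : (MvPowerSeries (Fin 2) R ⧸ I)ˣ)) := by
      rw [← mul_assoc, mul_comm (q y ^ 2), ← hpi, ← hw, mul_assoc, Units.mul_inv, mul_one]
    have hmapM : M.map q ≤ Ideal.span {q x, q y} := by
      rw [hM, Ideal.map_span, Ideal.span_le]
      rintro _ ⟨z, (rfl | rfl | rfl), rfl⟩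
      · show al ϖ ∈ Ideal.span {q x, q y}
        rw [hpi', pow_two, mul_assoc]
        exact Ideal.mul_mem_right _ _ (Ideal.subset_span (by simp))
      · exact Ideal.subset_span (by simp)
      · exact Ideal.subset_span (by simp)
    have hgoal : (M ^ (2 * (n + 1))).map q ≤ (Ideal.span {y ^ (2 * (n + 1)), x * y ^ (2 * (n + 1) - 1)}).map q := by
      rw [Ideal.map_pow]
      refine (Ideal.pow_right_mono hmapM _).trans ?_
      rw [show 2 * (n + 1) = 2 * n + 1 + 1 by omega, show 2 * n + 1 + 1 - 1 = 2 * n + 1 by omega]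
      refine (span_pair_pow_le (q x) (q y) (2 * n + 1)).trans (Ideal.span_le.mpr ?_)
      have g1 : q (y ^ (2 * n + 1 + 1)) ∈ (Ideal.span {y ^ (2 * n + 1 + 1), x * y ^ (2 * n + 1)}).map q :=
        Ideal.mem_map_of_mem _ (Ideal.subset_span (by simp))
      rintro z (rfl | rfl | rfl)
      · simpa using g1
      · simpa using Ideal.mem_map_of_mem q
          (Ideal.subset_span (by simp) : x * y ^ (2 * n + 1) ∈ Ideal.span {y ^ (2 * n + 1 + 1), x * y ^ (2 * n + 1)})
      · rw [SetLike.mem_coe, hx2, ha₁, map_mul al (u₁ : R), map_pow, hpi', mul_pow, ← pow_mul,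
          show 2 * (n + 1) = 2 * n + 1 + 1 by omega]
        rw [map_pow] at g1
        exact Ideal.mul_mem_right _ _ (Ideal.mul_mem_left _ _ (Ideal.mul_mem_left _ _ (Ideal.mul_mem_right _ _ g1)))
    refine le_antisymm (sup_le ?_ le_sup_right) (sup_le ?_ le_sup_right)
    · intro z hz
      have := hgoal (Ideal.mem_map_of_mem q hz)
      rw [← Ideal.mem_comap, Ideal.comap_map_of_surjective' _ Ideal.Quotient.mk_surjective, Ideal.mk_ker] at this
      exact this
    · refine le_trans (Ideal.span_le.mpr ?_) le_sup_left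
      have hxM : x ∈ M := hM ▸ Ideal.subset_span (by simp)
      have hyM : y ∈ M := hM ▸ Ideal.subset_span (by simp)
      rintro z (rfl | rfl)
      · exact Ideal.pow_mem_pow hyM _
      · rw [SetLike.mem_coe]
        rw [show 2 * (n + 1) = 2 * n + 1 + 1 by omega, show 2 * n + 1 + 1 - 1 = 2 * n + 1 by omega, pow_succ' M]
        exact Ideal.mul_mem_mul hxM (Ideal.pow_mem_pow hyM _)
  · have ha6i : Irreducible a₆ := by rw [ha₆]; exact (irreducible_isUnit_mul u₆.isUnit).mpr hϖ
    obtain ⟨hdom, hdvr, hirr, hinj, -⟩ := Groth.L05.TameRoot.rootRing_data R a₆ ha6i 2 two_ne_zero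
    haveI := hdom
    set R' := AdjoinRoot (Polynomial.X ^ 2 - Polynomial.C a₆ : Polynomial R) with hR'
    set s : R' := AdjoinRoot.root _ with hs
    have hs2 : s ^ 2 = algebraMap R R' a₆ := by
      have h := AdjoinRoot.eval₂_root (Polynomial.X ^ 2 - Polynomial.C a₆ : Polynomial R)
      rw [Polynomial.eval₂_sub, Polynomial.eval₂_X_pow, Polynomial.eval₂_C, sub_eq_zero] at h
      exact h
    have hsR : ∀ a : R, s ∣ algebraMap R R' a → a ∈ maximalIdeal R := fun a ha => by
      rw [mem_maximalIdeal]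
      exact fun hu => hirr.not_isUnit (isUnit_of_dvd_unit ha (hu.map (algebraMap R R')))
    have hpi : algebraMap R R' ϖ = s ^ 2 * algebraMap R R' ((u₆⁻¹ : Rˣ) : R) := by
      rw [hs2, ← map_mul]
      exact congrArg _ (by rw [ha₆, mul_right_comm, Units.mul_inv, one_mul])
    have hpiv : ∀ T : Type u, ∀ [CommRing T], ∀ f : R' →+* T, f s ^ (2 * (n + 1)) = 0 →
        f (algebraMap R R' (ϖ ^ (n + 1))) = 0 := fun T _ f hf => by
      rw [map_pow, map_pow, hpi, map_mul, map_pow, mul_pow, ← pow_mul, hf, zero_mul]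
    intro a b hab
    refine ⟨?_, ?_⟩
    · -- `x ↦ 0`, `y ↦ s` modulo `s ^ (2v+1)`
      let S := Ideal.span {s ^ (2 * (n + 1) + 1)}
      let f := Ideal.Quotient.mk S
      have hfs : f s ^ (2 * (n + 1) + 1) = 0 := by
        rw [← map_pow]; exact Ideal.Quotient.eq_zero_iff_mem.mpr (Ideal.mem_span_singleton_self _)
      obtain ⟨φ, hφC, hφX⟩ := exists_eval (R := R) (![0, f s] : Fin 2 → R' ⧸ S) (n := 2 * (n + 1) + 1) (by
        rw [eq_bot_iff]
        refine (Ideal.pow_right_mono (J := Ideal.span {f s}) (Ideal.span_le.mpr ?_) _).trans ?_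
        · rintro z ⟨i, rfl⟩; fin_cases i
          · simp
          · exact Ideal.mem_span_singleton_self _
        · rw [Ideal.span_singleton_pow, hfs, Ideal.span_singleton_eq_bot.mpr rfl])
      have hφx : φ x = 0 := by rw [hx, hφX]; rfl
      have hφy : φ y = f s := by rw [hy, hφX]; rfl
      have hpow : algebraMap R (R' ⧸ S) (ϖ ^ (n + 1)) * f s = 0 := by
        show f (algebraMap R R' (ϖ ^ (n + 1))) * f s = 0
        rw [map_pow, map_pow, hpi, map_mul, map_pow, mul_pow, ← pow_mul, mul_right_comm, ← pow_succ, hfs, zero_mul]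
      have hker : M ^ (2 * (n + 1) + 1) ⊔ I ≤ RingHom.ker φ := by
        refine sup_le ?_ ?_
        · have hMle : M.map φ ≤ Ideal.span {f s} := by
            rw [hM, Ideal.map_span, Ideal.span_le]
            rintro _ ⟨z, (rfl | rfl | rfl), rfl⟩
            · rw [hφC, SetLike.mem_coe]
              show f (algebraMap R R' ϖ) ∈ _
              rw [hpi, map_mul, map_pow, sq (f s), mul_assoc]
              exact Ideal.mul_mem_right _ _ (Ideal.mem_span_singleton_self _)
            · rw [hφx]; exact zero_mem _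
            · rw [hφy]; exact Ideal.mem_span_singleton_self _
          intro z hz
          have := Ideal.pow_right_mono hMle (2 * (n + 1) + 1) ((Ideal.map_pow φ M _) ▸ Ideal.mem_map_of_mem φ hz)
          rw [Ideal.span_singleton_pow, hfs, Ideal.span_singleton_eq_bot.mpr rfl] at this
          exact RingHom.mem_ker.mpr (Ideal.mem_bot.mp this)
        · rw [hI, Ideal.span_le]
          rintro z (rfl | rfl | rfl) <;> rw [SetLike.mem_coe, RingHom.mem_ker]
          · simp only [map_sub, map_add, map_mul, map_pow, Algebra.smul_def, hφC, hφx, hφy, mul_zero, zero_mul,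
              add_zero, ne_eq, OfNat.ofNat_ne_zero, not_false_eq_true, zero_pow, sub_zero]
            show f s ^ 2 - f (algebraMap R R' a₆) = 0
            rw [← hs2, map_pow, sub_self]
          · simp only [map_add, map_mul, map_ofNat, Algebra.smul_def, hφx, hφy, mul_zero, add_zero]
            rw [← map_ofNat (algebraMap R (R' ⧸ S)) 2, hc₂, map_mul, mul_right_comm, hpow, zero_mul]
          · simp only [map_sub, map_mul, map_pow, map_ofNat, Algebra.smul_def, hφC, hφx, hφy, ne_eq,
              OfNat.ofNat_ne_zero, not_false_eq_true, zero_pow, mul_zero, zero_sub, neg_eq_zero]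
            rw [ha₁, map_mul, mul_assoc, hpow, mul_zero]
      have h := RingHom.mem_ker.mp (hker hab)
      simp only [map_add, map_mul, map_pow, Algebra.smul_def, hφC, hφx, hφy, zero_mul, mul_zero, add_zero] at h
      refine hsR a ?_
      have h' : algebraMap R R' a * s ^ (2 * (n + 1)) ∈ S := by
        refine Ideal.Quotient.eq_zero_iff_mem.mp ?_
        rw [map_mul, map_pow]; exact h
      obtain ⟨r, hr⟩ := Ideal.mem_span_singleton.mp h'
      refine ⟨r, mul_right_cancel₀ (pow_ne_zero (2 * (n + 1)) hirr.ne_zero) ?_⟩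
      rw [hr, pow_succ s]; ring
    · -- `x ↦ ε`, `y ↦ s` modulo `s ^ (2v)`
      let S := Ideal.span {s ^ (2 * (n + 1))}
      let f := Ideal.Quotient.mk S
      let i := (TrivSqZeroExt.inlHom (R' ⧸ S) (R' ⧸ S))
      have hfs : f s ^ (2 * (n + 1)) = 0 := by
        rw [← map_pow]; exact Ideal.Quotient.eq_zero_iff_mem.mpr (Ideal.mem_span_singleton_self _)
      let e : DualNumber (R' ⧸ S) := DualNumber.eps
      have hbot : Ideal.span {e, i (f s)} ^ (2 * (n + 1) + 1) = ⊥ := by
        rw [eq_bot_iff]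
        refine (span_pair_pow_le e (i (f s)) (2 * (n + 1))).trans (Ideal.span_le.mpr ?_)
        rintro z (rfl | rfl | rfl) <;> rw [SetLike.mem_coe, Ideal.mem_bot]
        · rw [← map_pow, pow_succ (f s), hfs, zero_mul, map_zero]
        · rw [← map_pow, hfs, map_zero, mul_zero]
        · rw [pow_two e]; exact DualNumber.eps_mul_eps
      obtain ⟨φ, hφC, hφX⟩ := exists_eval (R := R) (![e, i (f s)] : Fin 2 → DualNumber (R' ⧸ S))
        (n := 2 * (n + 1) + 1) (by
          rw [eq_bot_iff, ← hbot]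
          refine Ideal.pow_right_mono (Ideal.span_le.mpr ?_) _
          rintro z ⟨j, rfl⟩; fin_cases j <;> exact Ideal.subset_span (by simp))
      have hφx : φ x = e := by rw [hx, hφX]; rfl
      have hφy : φ y = i (f s) := by rw [hy, hφX]; rfl
      have hal : ∀ r : R, algebraMap R (DualNumber (R' ⧸ S)) r = i (f (algebraMap R R' r)) := fun r => rfl
      have hzero : algebraMap R (DualNumber (R' ⧸ S)) (ϖ ^ (n + 1)) = 0 := by
        rw [hal, hpiv (R' ⧸ S) f hfs, map_zero]
      have ha1 : algebraMap R (DualNumber (R' ⧸ S)) a₁ = 0 := by rw [ha₁, map_mul, hzero, mul_zero]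
      have htwo : (2 : DualNumber (R' ⧸ S)) = 0 := by
        rw [← map_ofNat (algebraMap R (DualNumber (R' ⧸ S))) 2, hc₂, map_mul, hzero, zero_mul]
      have hee : e ^ 2 = 0 := by rw [pow_two e]; exact DualNumber.eps_mul_eps
      have hker : M ^ (2 * (n + 1) + 1) ⊔ I ≤ RingHom.ker φ := by
        refine sup_le ?_ ?_
        · have hMle : M.map φ ≤ Ideal.span {e, i (f s)} := by
            rw [hM, Ideal.map_span, Ideal.span_le]
            rintro _ ⟨z, (rfl | rfl | rfl), rfl⟩
            · rw [hφC, hal, hpi, map_mul, map_mul, map_pow, map_pow, sq (i (f s)), mul_assoc]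
              exact Ideal.mul_mem_right _ _ (Ideal.subset_span (by simp))
            · rw [hφx]; exact Ideal.subset_span (by simp)
            · rw [hφy]; exact Ideal.subset_span (by simp)
          intro z hz
          have := Ideal.pow_right_mono hMle (2 * (n + 1) + 1) ((Ideal.map_pow φ M _) ▸ Ideal.mem_map_of_mem φ hz)
          rw [hbot] at this
          exact RingHom.mem_ker.mpr (Ideal.mem_bot.mp this)
        · rw [hI, Ideal.span_le]
          rintro z (rfl | rfl | rfl) <;> rw [SetLike.mem_coe, RingHom.mem_ker]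
          · simp only [map_sub, map_add, map_mul, map_pow, Algebra.smul_def, hφC, hφx, hφy, ha1, zero_mul, add_zero]
            rw [pow_succ e 2, hee, zero_mul, sub_zero, hal, ← hs2, map_pow, map_pow, sub_self]
          · simp only [map_add, map_mul, map_ofNat, Algebra.smul_def, hφC, hφx, hφy, ha1, htwo, zero_mul, add_zero]
          · simp only [map_sub, map_mul, map_pow, map_ofNat, Algebra.smul_def, hφC, hφx, hφy, ha1, hee, zero_mul,
              mul_zero, sub_zero]
      have h := RingHom.mem_ker.mp (hker hab)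
      simp only [map_add, map_mul, map_pow, Algebra.smul_def, hφC, hφx, hφy, hal] at h
      rw [← map_pow i (f s) (2 * (n + 1)), hfs, map_zero, mul_zero, zero_add] at h
      rw [← map_pow i (f s), mul_left_comm, ← map_mul i, mul_comm e] at h
      have h' : f (algebraMap R R' b) * f s ^ (2 * (n + 1) - 1) = 0 := by
        have := congrArg TrivSqZeroExt.snd h
        simp only [i, e, DualNumber.eps, TrivSqZeroExt.inlHom_apply, TrivSqZeroExt.inl_mul_inr, TrivSqZeroExt.snd_inr,
          TrivSqZeroExt.snd_zero, smul_eq_mul, mul_one] at this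
        exact this
      refine hsR b ?_
      have h'' : algebraMap R R' b * s ^ (2 * (n + 1) - 1) ∈ S := by
        refine Ideal.Quotient.eq_zero_iff_mem.mp ?_
        rw [map_mul, map_pow]; exact h'
      obtain ⟨r, hr⟩ := Ideal.mem_span_singleton.mp h''
      refine ⟨r, mul_right_cancel₀ (pow_ne_zero (2 * (n + 1) - 1) hirr.ne_zero) ?_⟩
      rw [hr]
      rw [show 2 * (n + 1) = 2 * n + 1 + 1 by omega, show 2 * n + 1 + 1 - 1 = 2 * n + 1 by omega, pow_succ s (2 * n + 1)]
      ring

end Groth.L05.Weierstrass
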